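import Cfsg.Agent.Lib.KnownSimple.Order7920.Tools
import Cfsg.Agent.S0111
import Cfsg.Agent.S0219

/-!
No group of order `495 * 2 ^ i` (`i ≤ 4`) without subgroups of index 2 and without normal 2-subgroups has
45 Sylow 11-subgroups: the centre of a Sylow 2-subgroup contains an involution isolated in it.
-/

set_option autoImplicit false

namespace CfsgLib.KnownSimple.Order7920

open Subgroup

theorem forty_five_false {H : Type*} [Group H] [Finite H] {i : ℕ} (hi : i ≤ 4)
    (hH : Nat.card H = 495 * 2 ^ i) (h45 : Nat.card (Sylow 11 H) = 45)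
    (hidx : ∀ M : Subgroup H, M.index ≠ 2)
    (hO2 : ∀ K : Subgroup H, K.Normal → IsPGroup 2 K → K = ⊥) : False := by
  classical
  haveI : Fact (Nat.Prime 11) := ⟨by norm_num⟩
  haveI : Fact (Nat.Prime 2) := ⟨by norm_num⟩
  obtain ⟨P⟩ : Nonempty (Sylow 11 H) := inferInstance
  have hPc : Nat.card (P : Subgroup H) = 11 := by
    have h11 : ¬ 11 ∣ 45 * 2 ^ i := by interval_cases i <;> norm_num
    have := SmallGroups.card_sylow_eq (a := 1) (m := 45 * 2 ^ i) (by rw [hH]; ring) h11 P
    simpa using this
  set N : Subgroup H := normalizer ((P : Subgroup H) : Set H) with hN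
  have hNc : Nat.card N = 11 * 2 ^ i := by
    have := SmallGroups.card_sylow_mul_card_normalizer P
    rw [h45, hH, ← hN] at this
    omega
  have hNidx : N.index = 45 := by
    rw [hN, ← SmallGroups.card_sylow_eq_index P, h45]
  have hPN : (P : Subgroup H) ≤ N := le_normalizer
  -- elements of order 11 of `N` lie in `P`
  have helev : ∀ g ∈ N, orderOf g = 11 → g ∈ (P : Subgroup H) := fun g hg hord => by
    have hP11 : IsPGroup 11 (zpowers g) := IsPGroup.of_card (n := 1) (by rw [Nat.card_zpowers, hord, pow_one])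
    obtain ⟨Q, hQ⟩ := hP11.exists_le_sylow
    have := SmallGroups.sylow_eq_of_normalizes P Q
    by_contra hgP
    have h2 : (P : Subgroup H) ⊔ zpowers g ≤ N := sup_le hPN (zpowers_le.2 hg)
    have h3 : IsPGroup 11 (↥((P : Subgroup H) ⊔ zpowers g)) :=
      P.isPGroup'.to_sup_of_normal_left' hP11 (zpowers_le.2 hg)
    exact hgP (P.is_maximal' h3 le_sup_left ▸ (le_sup_right : zpowers g ≤ _) (mem_zpowers g))
  have hzp : ∀ g ∈ N, orderOf g = 11 → zpowers g = (P : Subgroup H) := fun g hg hord =>
    eq_of_le_of_card_ge (zpowers_le.2 (helev g hg hord)) (by rw [Nat.card_zpowers, hord, hPc])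
  -- conjugates of `N` containing a common element of order 11 coincide
  have hshare : ∀ g s : H, s ∈ N → g⁻¹ * s * g ∈ N → orderOf s = 11 → g ∈ N := by
    intro g s hs hs' hord
    have h1 := hzp s hs hord
    have h2 := hzp _ hs' (by
      rw [show g⁻¹ * s * g = MulAut.conj g⁻¹ s by simp, MulEquiv.orderOf_eq, hord])
    refine mem_normalizer_iff''.2 fun u => ?_
    show u ∈ (P : Subgroup H) ↔ g⁻¹ * u * g ∈ (P : Subgroup H)
    constructor
    · intro hu
      rw [← h1] at hu
      obtain ⟨k, rfl⟩ := hu
      rw [← h2, show g⁻¹ * s ^ k * g = (g⁻¹ * s * g) ^ k by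
        rw [show g⁻¹ * s ^ k * g = MulAut.conj g⁻¹ (s ^ k) by simp, map_zpow]; simp]
      exact zpow_mem (mem_zpowers _) k
    · intro hu
      rw [← h2] at hu
      obtain ⟨k, hk⟩ := hu
      have hk' : (g⁻¹ * s * g) ^ k = g⁻¹ * u * g := hk
      have : (g⁻¹ * s * g) ^ k = g⁻¹ * s ^ k * g := by
        rw [show g⁻¹ * s ^ k * g = MulAut.conj g⁻¹ (s ^ k) by simp, map_zpow]; simp
      rw [this] at hk'
      have hus : u = s ^ k := mul_left_cancel (mul_right_cancel hk'.symm)
      rw [hus, ← h1]
      exact zpow_mem (mem_zpowers _) k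
  -- normal subgroups inside `N` are trivial
  have hcore : ∀ K : Subgroup H, K.Normal → K ≤ N → K = ⊥ := by
    intro K hK hKN
    by_cases h11 : 11 ∣ Nat.card K
    · exfalso
      obtain ⟨s, hs⟩ := exists_prime_orderOf_dvd_card' (G := K) 11 h11
      rw [← Subgroup.orderOf_coe] at hs
      have hall : ∀ g : H, g ∈ N := fun g =>
        hshare g (s : H) (hKN s.2) (hKN (hK.conj_mem' _ s.2 g)) hs
      rw [(eq_top_iff' N).2 hall, index_top] at hNidx
      norm_num at hNidx
    · have hd : Nat.card K ∣ 2 ^ i := by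
        have := card_dvd_of_le hKN
        rw [hNc] at this
        exact ((Nat.Prime.coprime_iff_not_dvd (by norm_num)).2 h11).symm.dvd_of_dvd_mul_left this
      obtain ⟨k, -, hk⟩ := (Nat.dvd_prime_pow Nat.prime_two).1 hd
      exact hO2 K hK (IsPGroup.of_card hk)
  set C : Subgroup H := centralizer ((P : Subgroup H) : Set H) with hC
  have hCN : C ≤ N := centralizer_le_normalizer _
  have hnle : ¬ N ≤ C := by
    refine normalizer_not_le_centralizer P hPc (p := 5) (by norm_num) (by norm_num)
      (by rw [hH]; exact Dvd.dvd.mul_right (by norm_num) _) ?_ 7920 ?_ ?_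
    · rw [← hN, hNc]; interval_cases i <;> norm_num
    · rw [hH]; interval_cases i <;> norm_num
    · intro e he hd
      have : e ≤ 1 := by
        by_contra h
        have := (pow_dvd_pow 5 (show 2 ≤ e by omega)).trans hd
        norm_num at this
      rw [show e = 1 by omega]; norm_num
  have hrel : C.relIndex N ∣ 10 := by
    have := relIndex_centralizer_dvd (P : Subgroup H)
    rwa [card_mulAut_prime hPc] at this
  have hrel2 : C.relIndex N = 2 := by
    have h1 : C.relIndex N ≠ 1 := fun h => hnle (relIndex_eq_one.1 h)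
    have h0 := relIndex_mul_relIndex ⊥ C N bot_le hCN
    rw [relIndex_bot_left, relIndex_bot_left, hNc] at h0
    have h3 : C.relIndex N ∣ 11 * 2 ^ i := Dvd.intro_left _ h0
    have h5 : ¬ 5 ∣ 11 * 2 ^ i := by interval_cases i <;> norm_num
    have := Nat.le_of_dvd (by norm_num) hrel
    generalize C.relIndex N = r at *
    interval_cases r <;> first | rfl | omega
  -- a Sylow 2-subgroup inside `N`
  obtain ⟨Q₀⟩ : Nonempty (Sylow 2 N) := inferInstance
  have hQ₀ : Nat.card ((Q₀ : Subgroup N).map N.subtype) = 2 ^ i := by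
    rw [card_map_of_injective N.subtype_injective]
    exact SmallGroups.card_sylow_eq (m := 11) (by rw [hNc]; ring) (by norm_num) Q₀
  let Q : Sylow 2 H := Sylow.ofCard ((Q₀ : Subgroup N).map N.subtype) (by
    rw [hQ₀, hH, Nat.factorization_mul (by norm_num) (pow_ne_zero _ two_ne_zero), Finsupp.add_apply,
      Nat.Prime.factorization_pow Nat.prime_two, Finsupp.single_eq_same,
      Nat.factorization_eq_zero_of_not_dvd (show ¬ 2 ∣ 495 by norm_num), zero_add])
  have hQN : (Q : Subgroup H) ≤ N := map_subtype_le _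
  have hQc : Nat.card (Q : Subgroup H) = 2 ^ i := hQ₀
  have hipos : i ≠ 0 := by
    rintro rfl
    have h2 : 2 ∣ C.relIndex N := hrel2 ▸ dvd_rfl
    have := h2.trans (Dvd.intro_left _ (relIndex_mul_relIndex ⊥ C N bot_le hCN))
    rw [relIndex_bot_left, hNc] at this
    norm_num at this
  -- `A = C ∩ Q` has index 2 in `Q`
  have hAQ : C.relIndex (Q : Subgroup H) = 2 := by
    have h1 : C.relIndex (Q : Subgroup H) ≤ 2 :=
      (relIndex_le_of_le_right hQN (by rw [hrel2]; norm_num)).trans_eq hrel2
    have h2 : C.relIndex (Q : Subgroup H) ≠ 1 := fun h => by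
      have hQC : (Q : Subgroup H) ≤ C := relIndex_eq_one.1 h
      have hc := card_dvd_of_le hQC
      have h3 := relIndex_mul_relIndex ⊥ C N bot_le hCN
      rw [relIndex_bot_left, relIndex_bot_left, hrel2, hNc] at h3
      rw [hQc] at hc
      have : 2 ^ (i + 1) ∣ 11 * 2 ^ i := by
        rw [← h3, pow_succ]; exact Nat.mul_dvd_mul hc dvd_rfl
      have := Nat.le_of_dvd (by norm_num)
        ((Nat.Coprime.dvd_of_dvd_mul_left (Nat.Coprime.pow_left _ (by norm_num)) this))
      rw [pow_succ] at this
      have := Nat.one_le_two_pow (n := i)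
      omega
    have h3 : C.relIndex (Q : Subgroup H) ≠ 0 := index_ne_zero_of_finite
    omega
  set A : Subgroup H := C ⊓ (Q : Subgroup H) with hA
  have hArel : A.relIndex (Q : Subgroup H) = 2 := by rw [hA, inf_relIndex_right]; exact hAQ
  have hAc : Nat.card A * 2 = 2 ^ i := by
    have h := relIndex_mul_relIndex ⊥ A (Q : Subgroup H) bot_le inf_le_right
    rwa [relIndex_bot_left, relIndex_bot_left, hArel, hQc] at h
  have hi2 : 2 ≤ i := by
    by_contra hi2
    have hi1 : i = 1 := by omega
    haveI : IsCyclic (Q : Subgroup H) := isCyclic_of_prime_card (p := 2) (by rw [hQc, hi1, pow_one])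
    obtain ⟨M, hM⟩ := Cfsg.Agent.S0219.result (G := H) (by rw [hH, hi1]; exact ⟨495, rfl⟩) Q inferInstance
    exact hidx M hM
  -- an involution `x` of `A` central in `Q`
  obtain ⟨x, hxA, hxo, hxQ⟩ : ∃ x ∈ A, orderOf x = 2 ∧ ∀ u ∈ (Q : Subgroup H), u * x = x * u := by
    haveI : (A.subgroupOf (Q : Subgroup H)).Normal := normal_of_index_eq_two hArel
    letI : MulAction (Q : Subgroup H) (A.subgroupOf (Q : Subgroup H)) :=
      MulAction.compHom _ (MulAut.conjNormal (H := A.subgroupOf (Q : Subgroup H)))
    have hdvd : 2 ∣ Nat.card (A.subgroupOf (Q : Subgroup H)) := by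
      rw [Nat.card_congr (subgroupOfEquivOfLe (inf_le_right : A ≤ _)).toEquiv]
      refine ⟨2 ^ (i - 2), ?_⟩
      show Nat.card A = _
      have : (2:ℕ) ^ i = 2 ^ (i - 2) * 2 * 2 := by
        rw [mul_assoc, show (2:ℕ) * 2 = 2 ^ 2 by rfl, ← pow_add, Nat.sub_add_cancel hi2]
      omega
    obtain ⟨w, hw, hw1⟩ := Q.isPGroup'.exists_fixed_point_of_prime_dvd_card_of_fixed_point
      (α := A.subgroupOf (Q : Subgroup H)) hdvd (a := 1) (fun u => map_one (MulAut.conjNormal u))
    obtain ⟨k, hk⟩ := IsPGroup.iff_orderOf.1 Q.isPGroup' (w : (Q : Subgroup H))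
    have hk0 : k ≠ 0 := fun h0 => hw1 (Subtype.ext (orderOf_eq_one_iff.1 (by rw [hk, h0, pow_zero])).symm)
    refine ⟨((w : (Q : Subgroup H)) : H) ^ 2 ^ (k - 1), pow_mem w.2 _, ?_, fun u hu => ?_⟩
    · rw [orderOf_pow' _ (pow_ne_zero _ two_ne_zero), Subgroup.orderOf_coe, hk,
        Nat.gcd_eq_right (pow_dvd_pow 2 (Nat.sub_le k 1)), Nat.pow_div (Nat.sub_le k 1) two_pos,
        show k - (k - 1) = 1 by omega, pow_one]
    · have h := congrArg (fun z : A.subgroupOf (Q : Subgroup H) => (((z : (Q : Subgroup H))) : H))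
        (hw ⟨u, hu⟩)
      change u * _ * u⁻¹ = _ at h
      exact (Commute.pow_right (show Commute u ((w : (Q : Subgroup H)) : H) from
        mul_inv_eq_iff_eq_mul.1 h) _).eq
  have hxN : x ∈ N := hCN hxA.1
  have hx1 : x ≠ 1 := fun h => by rw [h, orderOf_one] at hxo; norm_num at hxo
  -- `N` centralizes `x`
  have hNx : N ≤ centralizer {x} := by
    have h1 : (P : Subgroup H) ≤ N ⊓ centralizer {x} := le_inf hPN fun u hu =>
      mem_centralizer_singleton_iff.2 (mem_centralizer_iff.1 hxA.1 u hu)
    have h2 : (Q : Subgroup H) ≤ N ⊓ centralizer {x} := le_inf hQN fun u hu =>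
      mem_centralizer_singleton_iff.2 (hxQ u hu)
    have hd : 11 * 2 ^ i ∣ Nat.card ↥(N ⊓ centralizer {x}) :=
      Nat.Coprime.mul_dvd_of_dvd_of_dvd (Nat.Coprime.pow_right _ (by norm_num))
        (hPc ▸ card_dvd_of_le h1) (hQc ▸ card_dvd_of_le h2)
    have := eq_of_le_of_card_ge (inf_le_left : N ⊓ centralizer {x} ≤ N)
      (hNc ▸ Nat.le_of_dvd Nat.card_pos hd)
    exact inf_eq_left.1 this
  -- Sylow numbers of subgroups containing `P`
  have hrelK : ∀ K : Subgroup H, (P : Subgroup H) ≤ K → N.relIndex K % 11 = 1 := by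
    intro K hPK
    have h1 := SmallGroups.card_sylow_eq_index (P.subtype hPK)
    have h2 := SmallGroups.mod_eq_one_card_sylow (G := K) (p := 11)
    rw [h1, Sylow.coe_subtype, ← subgroupOf_normalizer_eq hPK] at h2
    exact h2
  have hcentral : ∀ K : Subgroup H, (∀ g : H, ∃ k ∈ K, ∃ n ∈ N, g = k * n) → x ∈ K →
      ∀ g : H, g * x * g⁻¹ ∈ K := by
    intro K hK hxK g
    obtain ⟨k, hk, n, hn, rfl⟩ := hK g
    have hnx : n * x = x * n := mem_centralizer_singleton_iff.1 (hNx hn)
    have : k * n * x * (k * n)⁻¹ = k * x * k⁻¹ := by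
      rw [mul_assoc k n x, hnx]; group
    rw [this]
    exact mul_mem (mul_mem hk hxK) (inv_mem hk)
  have hCx : centralizer {x} ≤ N := by
    have h1 := hrelK (centralizer {x}) (hPN.trans hNx)
    have h2 : N.relIndex (centralizer {x}) ∣ 45 := by
      rw [← hNidx]; exact Dvd.intro _ (relIndex_mul_index hNx)
    have h3 : N.relIndex (centralizer {x}) = 1 ∨ N.relIndex (centralizer {x}) = 45 := by
      have := Nat.le_of_dvd (by norm_num) h2
      generalize N.relIndex (centralizer {x}) = r at *
      interval_cases r <;> omega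
    rcases h3 with h | h
    · exact relIndex_eq_one.1 h
    · exfalso
      have h4 := relIndex_mul_index hNx
      rw [h, hNidx] at h4
      have h5 : centralizer {x} = (⊤ : Subgroup H) := index_eq_one.1 (by omega)
      have hall : ∀ g : H, g * x * g⁻¹ = x := fun g =>
        mul_inv_eq_iff_eq_mul.2 (mem_centralizer_singleton_iff.1
          (show g ∈ centralizer {x} from h5.symm ▸ mem_top g))
      have hn : (zpowers x).Normal := ⟨fun u hu g => by
        obtain ⟨k, rfl⟩ := hu
        rw [← conj_zpow, hall]; exact zpow_mem (mem_zpowers x) k⟩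
      have := hO2 _ hn (IsPGroup.of_card (n := 1) (by rw [Nat.card_zpowers, hxo, pow_one]))
      exact hx1 (zpowers_eq_bot.1 this)
  -- `x` fixes only the base coset
  have hfixiff : ∀ g : H, x • (g : H ⧸ N) = (g : H ⧸ N) ↔ g⁻¹ * x * g ∈ N := fun g => by
    rw [MulAction.Quotient.smul_coe, smul_eq_mul, eq_comm, QuotientGroup.eq, mul_assoc]
  have hiso : ∀ g : H, g⁻¹ * x * g ∈ N → g ∈ N := by
    haveI : Fintype (H ⧸ N) := Fintype.ofFinite _
    let φ : H →* ℤˣ := (Equiv.Perm.sign : Equiv.Perm (H ⧸ N) →* ℤˣ).comp (MulAction.toPermHom H (H ⧸ N))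
    have hφ : ∀ g : H, φ g = 1 := fun g => by
      by_contra hne
      refine hidx φ.ker ?_
      rw [index_ker]
      have hsurj : φ.range = ⊤ := by
        rw [eq_top_iff]
        rintro u -
        rcases Int.units_eq_one_or u with rfl | rfl
        · exact one_mem _
        · exact ⟨g, (Int.units_eq_one_or _).resolve_left hne⟩
      rw [hsurj, card_top, Nat.card_eq_fintype_card, Fintype.card_units_int]
    set σ := MulAction.toPermHom H (H ⧸ N) x with hσ
    set F : Set (H ⧸ N) := {z | σ z = z} with hF
    have hcard45 : Nat.card (H ⧸ N) = 45 := by rw [← index_eq_card, hNidx]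
    have hσ2 : σ ^ 2 = 1 := by rw [hσ, ← map_pow, ← hxo, pow_orderOf_eq_one, map_one]
    -- fixed points modulo 11
    letI : MulAction (P : Subgroup H) F :=
      { smul := fun u z => ⟨(u : H) • (z : H ⧸ N), by
          show x • ((u : H) • (z : H ⧸ N)) = (u : H) • (z : H ⧸ N)
          rw [smul_smul, ← mem_centralizer_singleton_iff.1 (hNx (hPN u.2)), ← smul_smul]
          exact congrArg _ z.2⟩
        one_smul := fun z => Subtype.ext (one_smul H (z : H ⧸ N))
        mul_smul := fun a b z => Subtype.ext (mul_smul (a : H) (b : H) (z : H ⧸ N)) }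
    have hbase : ((1 : H) : H ⧸ N) ∈ F := (hfixiff 1).2 (by simpa using hxN)
    have hmod : Nat.card F % 11 = 1 := by
      have h1 := P.isPGroup'.card_modEq_card_fixedPoints F
      have hu : Unique (MulAction.fixedPoints (P : Subgroup H) F) :=
        { default := ⟨⟨_, hbase⟩, fun u => Subtype.ext (by
            show (u : H) • ((1 : H) : H ⧸ N) = _
            rw [MulAction.Quotient.smul_coe, smul_eq_mul, mul_one, QuotientGroup.eq, mul_one]
            exact inv_mem (hPN u.2))⟩
          uniq := fun z => by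
            obtain ⟨⟨z, hzF⟩, hz⟩ := z
            induction z using QuotientGroup.induction_on with
            | H g =>
              obtain ⟨s, hs⟩ := exists_prime_orderOf_dvd_card' (G := (P : Subgroup H)) 11 (by rw [hPc])
              have h := congrArg Subtype.val (hz s)
              change (s : H) • (g : H ⧸ N) = (g : H ⧸ N) at h
              rw [MulAction.Quotient.smul_coe, smul_eq_mul, eq_comm, QuotientGroup.eq, ← mul_assoc] at h
              have hgN := hshare g (s : H) (hPN s.2) h (by rw [Subgroup.orderOf_coe, hs])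
              refine Subtype.ext (Subtype.ext ?_)
              show (g : H ⧸ N) = ((1 : H) : H ⧸ N)
              rw [QuotientGroup.eq, mul_one]
              exact inv_mem hgN }
      rw [Nat.ModEq, Nat.card_unique (α := MulAction.fixedPoints (P : Subgroup H) F)] at h1
      exact h1
    have hsign : (-1 : ℤˣ) ^ ((45 - Nat.card F) / 2) = 1 := by
      have h := hφ x
      change Equiv.Perm.sign σ = 1 at h
      rw [Equiv.Perm.sign_of_pow_two_eq_one hσ2] at h
      rw [← hcard45, Nat.card_eq_fintype_card, Nat.card_eq_fintype_card]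
      convert h using 3
      exact congrArg _ (Fintype.card_congr (Equiv.setCongr rfl))
    have hle : Nat.card F ≤ 45 := hcard45 ▸ Finite.card_subtype_le _
    have hpar : Nat.card F % 2 = 1 := by
      have h1 := perm_fixed_modEq (q := 2) σ hσ2
      rw [hcard45] at h1
      exact h1.symm
    rcases Int.units_eq_one_or ((-1 : ℤˣ) ^ ((45 - Nat.card F) / 2)) with h' | h'
    swap
    · rw [hsign] at h'; exact absurd h' (by decide)
    have hev : Even ((45 - Nat.card F) / 2) := by
      rcases Nat.even_or_odd ((45 - Nat.card F) / 2) with h | h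
      · exact h
      · rw [h.neg_one_pow] at h'; exact absurd h' (by decide)
    have hF' : Nat.card F = 1 ∨ Nat.card F = 45 := by
      obtain ⟨r, hr⟩ := hev
      omega
    rcases hF' with h | h
    · intro g hg
      haveI := (Nat.card_eq_one_iff_unique.1 h).1
      have he : (⟨(g : H ⧸ N), (hfixiff g).2 hg⟩ : F) = ⟨_, hbase⟩ := Subsingleton.elim _ _
      have he' : (g : H ⧸ N) = ((1 : H) : H ⧸ N) := congrArg Subtype.val he
      rw [QuotientGroup.eq, mul_one] at he'
      exact inv_mem_iff.1 he'
    · exfalso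
      have hall : F = Set.univ := Set.eq_of_subset_of_ncard_le (Set.subset_univ _)
        (by rw [Set.ncard_univ, hcard45, ← h, Nat.card_coe_set_eq]) (Set.toFinite _)
      have hk := hcore (MulAction.toPermHom H (H ⧸ N)).ker inferInstance (fun u hu => by
        have h1 : u • ((1 : H) : H ⧸ N) = ((1 : H) : H ⧸ N) := by
          have h0 := Equiv.congr_fun (MonoidHom.mem_ker.1 hu) ((1 : H) : H ⧸ N)
          exact h0
        rw [MulAction.Quotient.smul_coe, smul_eq_mul, mul_one, eq_comm, QuotientGroup.eq,
          inv_one, one_mul] at h1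
        exact h1)
      have hxk : x ∈ (MulAction.toPermHom H (H ⧸ N)).ker :=
        MonoidHom.mem_ker.2 (Equiv.ext fun z => show z ∈ F from hall ▸ trivial)
      rw [hk, mem_bot] at hxk
      exact hx1 hxk
  -- centralizers of nontrivial elements of `A` lie in `N`
  have hCa : ∀ a ∈ A, a ≠ 1 → centralizer {a} ≤ N := by
    intro a ha ha1
    have hPK : (P : Subgroup H) ≤ centralizer {a} := fun u hu =>
      mem_centralizer_singleton_iff.2 (mem_centralizer_iff.1 ha.1 u hu)
    have hxK : x ∈ centralizer {a} := mem_centralizer_singleton_iff.2 (hxQ a ha.2).symm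
    have h1 := hrelK _ hPK
    have hodd : N.relIndex (centralizer {a}) % 2 = 1 := by
      set K := centralizer {a}
      have hσ2 : (MulAction.toPermHom K (K ⧸ N.subgroupOf K) ⟨x, hxK⟩) ^ 2 = 1 := by
        rw [← map_pow, show (⟨x, hxK⟩ : K) ^ 2 = 1 from Subtype.ext (by
          rw [Subgroup.coe_pow, ← hxo, pow_orderOf_eq_one]; rfl), map_one]
      have h2 := perm_fixed_modEq (q := 2) _ hσ2
      have hu : Unique {z : K ⧸ N.subgroupOf K //
          MulAction.toPermHom K (K ⧸ N.subgroupOf K) ⟨x, hxK⟩ z = z} :=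
        { default := ⟨((1 : K) : K ⧸ N.subgroupOf K), by
            show (⟨x, hxK⟩ : K) • ((1 : K) : K ⧸ N.subgroupOf K) = _
            rw [MulAction.Quotient.smul_coe, smul_eq_mul, mul_one, QuotientGroup.eq, mul_one,
              mem_subgroupOf]
            exact inv_mem hxN⟩
          uniq := fun z => by
            obtain ⟨z, hz⟩ := z
            induction z using QuotientGroup.induction_on with
            | H k =>
              change (⟨x, hxK⟩ : K) • (k : K ⧸ N.subgroupOf K) = _ at hz
              rw [MulAction.Quotient.smul_coe, smul_eq_mul, eq_comm, QuotientGroup.eq, mem_subgroupOf]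
                at hz
              have hk : (k : H)⁻¹ * x * k ∈ N := by simpa [mul_assoc] using hz
              refine Subtype.ext ?_
              show (k : K ⧸ N.subgroupOf K) = _
              rw [QuotientGroup.eq, mul_one, mem_subgroupOf]
              exact inv_mem (hiso _ hk) }
      rw [Nat.card_unique (α := {z : K ⧸ N.subgroupOf K //
        MulAction.toPermHom K (K ⧸ N.subgroupOf K) ⟨x, hxK⟩ z = z}), ← index_eq_card] at h2
      exact h2
    have h2 : N.relIndex (centralizer {a}) ∣ 495 := by
      have hd : N.relIndex (centralizer {a}) ∣ Nat.card H :=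
        ((N.subgroupOf (centralizer {a})).index_dvd_card).trans (card_subgroup_dvd_card _)
      rw [hH] at hd
      exact (Nat.Coprime.pow_right _ ((Nat.coprime_two_right).2 (Nat.odd_iff.2 hodd))).dvd_of_dvd_mul_right hd
    have h3 : N.relIndex (centralizer {a}) = 1 ∨ N.relIndex (centralizer {a}) = 45 := by
      have hle : N.relIndex (centralizer {a}) ≤ 45 := hNidx ▸ (by
        rw [← relIndex_top_right N]
        exact relIndex_le_of_le_right le_top (by rw [relIndex_top_right, hNidx]; norm_num))
      generalize N.relIndex (centralizer {a}) = r at *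
      interval_cases r <;> omega
    rcases h3 with h | h
    · exact relIndex_eq_one.1 h
    · exfalso
      have htrans : ∀ g : H, ∃ k ∈ centralizer {a}, ∃ n ∈ N, g = k * n := by
        intro g
        haveI : Fintype (H ⧸ N) := Fintype.ofFinite _
        let f : centralizer {a} ⧸ N.subgroupOf (centralizer {a}) → H ⧸ N :=
          Quotient.map' (fun k => (k : H)) (fun k l hkl => by
            rw [QuotientGroup.leftRel_apply] at hkl ⊢; exact hkl)
        have hf : Function.Bijective f := by
          rw [Nat.bijective_iff_injective_and_card]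
          refine ⟨?_, by rw [← index_eq_card, ← index_eq_card, hNidx]; exact h⟩
          intro u v
          induction u using QuotientGroup.induction_on with
          | H u =>
            induction v using QuotientGroup.induction_on with
            | H v =>
              intro huv
              have : ((u : H) : H ⧸ N) = ((v : H) : H ⧸ N) := huv
              rw [QuotientGroup.eq] at this
              exact QuotientGroup.eq.2 this
        obtain ⟨z, hz⟩ := hf.2 (g : H ⧸ N)
        induction z using QuotientGroup.induction_on with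
        | H k =>
          have : ((k : H) : H ⧸ N) = (g : H ⧸ N) := hz
          rw [QuotientGroup.eq] at this
          exact ⟨k, k.2, _, this, by group⟩
      have hconj := hcentral _ htrans hxK
      have hL : centralizer (normalClosure {x} : Set H) = ⊥ := hcore _ inferInstance (fun u hu =>
        hCx (mem_centralizer_singleton_iff.2
          ((mem_centralizer_iff.1 hu x (subset_normalClosure rfl)).symm)))
      have haL : a ∈ centralizer (normalClosure {x} : Set H) := by
        refine mem_centralizer_iff.2 fun u hu => ?_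
        have hle : normalClosure {x} ≤ centralizer {a} := by
          rw [normalClosure, closure_le]
          intro v hv
          obtain ⟨w, hw, hwv⟩ := Group.mem_conjugatesOfSet_iff.1 hv
          rw [Set.mem_singleton_iff.1 hw] at hwv
          obtain ⟨g, hg⟩ := isConj_iff.1 hwv
          rw [← hg]; exact hconj g
        exact (mem_centralizer_singleton_iff.1 (hle hu))
      rw [hL, mem_bot] at haL
      exact ha1 haL
  -- the transfer conjugates involutions of `N` into `A`
  have htransfer : ∀ s ∈ N, orderOf s = 2 → ∃ k : H, ∃ a ∈ A, a ≠ 1 ∧ s = k * a * k⁻¹ := by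
    intro s hs hso
    have hsN : IsPGroup 2 (zpowers (⟨s, hs⟩ : N)) :=
      IsPGroup.of_card (n := 1) (by rw [Nat.card_zpowers, Subgroup.orderOf_mk, hso, pow_one])
    obtain ⟨R, hR⟩ := hsN.exists_le_sylow
    obtain ⟨n, hn⟩ := MulAction.exists_smul_eq N R Q₀
    have hs' : (n : H) * s * (n : H)⁻¹ ∈ (Q : Subgroup H) := by
      refine ⟨MulAut.conj n ⟨s, hs⟩, ?_, by simp⟩
      rw [SetLike.mem_coe, ← hn, Sylow.coe_subgroup_smul]
      exact smul_mem_pointwise_smul _ _ _ (hR (mem_zpowers _))
    have hs'o : orderOf ((n : H) * s * (n : H)⁻¹) = 2 := by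
      rw [show (n : H) * s * (n : H)⁻¹ = MulAut.conj (n : H) s by simp, MulEquiv.orderOf_eq, hso]
    obtain ⟨g, hg⟩ : ∃ g : H, g * ((n : H) * s * (n : H)⁻¹) * g⁻¹ ∈ A := by
      by_cases hA' : (n : H) * s * (n : H)⁻¹ ∈ A
      · exact ⟨1, by simpa using hA'⟩
      · rcases Cfsg.Agent.S0111.result Q A inf_le_right hArel _ hs'o hs' hA' with ⟨M, -, hM, -⟩ | h
        · exact absurd hM (hidx M)
        · exact h
    refine ⟨(g * n)⁻¹, _, hg, fun h1 => ?_, by group⟩
    have : (n : H) * s * (n : H)⁻¹ = 1 := by
      have h2 := congrArg (fun z => g⁻¹ * z * g) h1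
      simpa [mul_assoc] using h2
    rw [this, orderOf_one] at hs'o
    norm_num at hs'o
  rcases (show i = 2 ∨ 3 ≤ i by omega) with rfl | hi3
  · -- Sylow 2-subgroups of order 4: `A = {1, x}`
    have hA2 : Nat.card A = 2 := by omega
    have hAx : A = zpowers x := (eq_of_le_of_card_ge (zpowers_le.2 hxA)
      (by rw [Nat.card_zpowers, hxo, hA2])).symm
    have hex : ∃ u ∈ (Q : Subgroup H), u ∉ A ∧ orderOf u = 2 := by
      by_contra hne
      obtain ⟨u, hu, huA⟩ : ∃ u ∈ (Q : Subgroup H), u ∉ A := by
        by_contra h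
        push_neg at h
        have h2 := card_dvd_of_le (show (Q : Subgroup H) ≤ A from h)
        rw [hQc, hA2] at h2
        norm_num at h2
      have hd : orderOf u ∣ 2 ^ 2 := by
        rw [← hQc, ← Subgroup.orderOf_mk (ha := hu)]
        exact orderOf_dvd_natCard _
      obtain ⟨k, hk, hk'⟩ := (Nat.dvd_prime_pow Nat.prime_two).1 hd
      have hk2 : k = 2 := by
        rcases (show k = 0 ∨ k = 1 ∨ k = 2 by omega) with rfl | rfl | rfl
        · exact absurd (orderOf_eq_one_iff.1 hk') fun h => huA (h ▸ one_mem A)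
        · exact absurd ⟨u, hu, huA, by simpa using hk'⟩ hne
        · rfl
      haveI : IsCyclic (Q : Subgroup H) := isCyclic_of_orderOf_eq_card (⟨u, hu⟩ : (Q : Subgroup H))
        (by rw [Subgroup.orderOf_mk, hk', hk2, hQc])
      obtain ⟨M, hM⟩ := Cfsg.Agent.S0219.result (G := H) (by rw [hH]; exact ⟨990, rfl⟩) Q inferInstance
      exact hidx M hM
    obtain ⟨u, hu, huA, huo⟩ := hex
    obtain ⟨k, a, ha, ha1, hua⟩ := htransfer u (hQN hu) huo
    have hax : a = x := by
      rw [hAx] at ha
      obtain ⟨j, rfl⟩ := ha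
      dsimp only at ha1 ⊢
      rcases Int.even_or_odd j with ⟨r, rfl⟩ | ⟨r, rfl⟩
      · exfalso; apply ha1
        rw [← two_mul, zpow_mul, zpow_ofNat, ← hxo, pow_orderOf_eq_one, one_zpow]
      · rw [zpow_add, zpow_mul, zpow_ofNat, ← hxo, pow_orderOf_eq_one, one_zpow, one_mul, zpow_one]
    rw [hax] at hua
    have hk : k⁻¹ ∈ N := hiso k⁻¹ (by rw [inv_inv, ← hua]; exact hQN hu)
    have : u = x := by
      rw [hua, mem_centralizer_singleton_iff.1 (hNx (inv_mem_iff.1 hk))]; group
    exact huA (this ▸ hxA)
  · -- some involution centralizes two conjugates of `x`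
    obtain ⟨g, hg⟩ : ∃ g : H, g ∉ N := by
      by_contra h
      push_neg at h
      rw [(eq_top_iff' N).2 h, index_top] at hNidx
      norm_num at hNidx
    have hne : N ⊓ N.map (MulAut.conj g).toMonoidHom ≠ ⊥ := by
      intro h
      have hinj : Function.Injective (fun n : N => (((n : H) * g : H) : H ⧸ N)) := by
        intro a b hab
        rw [QuotientGroup.eq] at hab
        have hmem : (a : H)⁻¹ * b ∈ N ⊓ N.map (MulAut.conj g).toMonoidHom := by
          refine mem_inf.2 ⟨N.mul_mem (N.inv_mem a.2) b.2, _, hab, ?_⟩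
          simp [mul_assoc]
        rw [h, mem_bot, inv_mul_eq_one] at hmem
        exact Subtype.ext hmem
      have hle := Nat.card_le_card_of_injective _ hinj
      rw [hNc, ← index_eq_card, hNidx] at hle
      have : (2:ℕ) ^ 3 ≤ 2 ^ i := Nat.pow_le_pow_right two_pos hi3
      omega
    have hcard := (Subgroup.one_lt_card_iff_ne_bot _).2 hne
    obtain ⟨l, hl, hld⟩ := Nat.exists_prime_and_dvd hcard.ne'
    haveI : Fact l.Prime := ⟨hl⟩
    obtain ⟨⟨s, hsN, s', hs', hss⟩, hso⟩ := exists_prime_orderOf_dvd_card'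
      (G := ↥(N ⊓ N.map (MulAut.conj g).toMonoidHom)) l hld
    rw [← Subgroup.orderOf_coe] at hso
    change orderOf s = l at hso
    have hs'g : g⁻¹ * s * g ∈ N := by
      have : g⁻¹ * s * g = s' := by rw [← hss]; simp [mul_assoc]
      rw [this]; exact hs'
    have hl2 : l = 2 := by
      have : l ∣ 11 * 2 ^ i := by
        rw [← hNc, ← hso, ← Subgroup.orderOf_mk (ha := hsN)]
        exact orderOf_dvd_natCard _
      rcases (Nat.Prime.dvd_mul hl).1 this with h | h
      · rw [(Nat.prime_dvd_prime_iff_eq hl (by norm_num)).1 h] at hso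
        exact absurd (hshare g s hsN hs'g hso) hg
      · exact (Nat.prime_dvd_prime_iff_eq hl Nat.prime_two).1 (hl.dvd_of_dvd_pow h)
    subst hl2
    obtain ⟨k, a, ha, ha1, hsa⟩ := htransfer s hsN hso
    have hmemk : ∀ y : H, Commute y s → k⁻¹ * y * k ∈ N := fun y hy => hCa a ha ha1
      (mem_centralizer_singleton_iff.2 (by
        have h := hy.eq
        rw [hsa] at h
        calc k⁻¹ * y * k * a = k⁻¹ * (y * (k * a * k⁻¹)) * k := by group
          _ = k⁻¹ * (k * a * k⁻¹ * y) * k := by rw [h]
          _ = a * (k⁻¹ * y * k) := by group))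
    have hxs : Commute x s := (mem_centralizer_singleton_iff.1 (hNx hsN)).symm
    have hk : k ∈ N := hiso k (hmemk x hxs)
    have hys : Commute (g * x * g⁻¹) s := by
      have h : (g⁻¹ * s * g) * x = x * (g⁻¹ * s * g) := mem_centralizer_singleton_iff.1 (hNx hs'g)
      show g * x * g⁻¹ * s = s * (g * x * g⁻¹)
      calc g * x * g⁻¹ * s = g * (x * (g⁻¹ * s * g)) * g⁻¹ := by group
        _ = g * ((g⁻¹ * s * g) * x) * g⁻¹ := by rw [h]
        _ = s * (g * x * g⁻¹) := by group
    have h2 : g⁻¹ * k ∈ N := hiso _ (by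
      have := hmemk _ hys
      simpa [mul_assoc] using this)
    exact hg (inv_mem_iff.1 ((mul_mem_cancel_right hk).1 h2))

end CfsgLib.KnownSimple.Order7920
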