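import Cfsg.Agent.Lib.KnownSimple.Order7920.FortyFive
import Cfsg.Agent.Lib.Char.Burnside
import Cfsg.Agent.Lib.Solvable.MinimalNormal
import Cfsg.Agent.Lib.Cores.Basic

/-!
A group of order 7920 with disconnected prime graph is simple.
-/

set_option autoImplicit false

namespace CfsgLib.KnownSimple.Order7920

open Subgroup

variable {G : Type*} [Group G] [Finite G]

omit [Finite G] in
theorem orderOf_mul_of_commute {x y : G} {q p : ℕ} (hq : q.Prime) (hp : p.Prime) (hqp : q ≠ p)
    (hx : orderOf x = q) (hy : orderOf y = p) (h : Commute x y) : orderOf (x * y) = q * p := by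
  rw [h.orderOf_mul_eq_mul_orderOf_of_coprime (by rw [hx, hy]; exact (Nat.coprime_primes hq hp).2 hqp),
    hx, hy]

/-- If a prime `p` divides the order of the centralizer of a subgroup containing an element of order `q`,
there is an element of order `q * p`. -/
theorem exists_mul_of_centralizer (N : Subgroup G) {q p : ℕ} (hq : q.Prime) (hp : p.Prime) (hqp : q ≠ p)
    (hqN : q ∣ Nat.card N) (hpC : p ∣ Nat.card (centralizer (N : Set G))) :
    ∃ g : G, orderOf g = q * p := by
  haveI : Fact q.Prime := ⟨hq⟩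
  haveI : Fact p.Prime := ⟨hp⟩
  obtain ⟨x, hx⟩ := exists_prime_orderOf_dvd_card' (G := N) q hqN
  obtain ⟨y, hy⟩ := exists_prime_orderOf_dvd_card' (G := centralizer (N : Set G)) p hpC
  exact ⟨_, orderOf_mul_of_commute hq hp hqp (by rw [Subgroup.orderOf_coe, hx])
    (by rw [Subgroup.orderOf_coe, hy]) (mem_centralizer_iff.1 y.2 x x.2)⟩

/-- A prime `q` outside the order of a normal subgroup `K` is joined to a suitable prime divisor of it. -/
theorem exists_mul_of_coprime (K : Subgroup G) [K.Normal] {q p : ℕ} (hq : q.Prime) (hp : p.Prime)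
    (hqG : q ∣ Nat.card G) (hqK : ¬ q ∣ Nat.card K) (hpK : p ∣ Nat.card K) (M : ℕ)
    (hKM : Nat.card K ∣ M) (hM : ∀ e, 0 < e → p ^ e ∣ M → p ^ e % q ≠ 1) :
    ∃ g : G, orderOf g = q * p := by
  haveI : Fact q.Prime := ⟨hq⟩
  obtain ⟨x, hx⟩ := exists_prime_orderOf_dvd_card' q hqG
  obtain ⟨y, -, hy, hxy⟩ := exists_commute_of_coprime K hq hp hx hqK hpK M hKM hM
  exact ⟨_, orderOf_mul_of_commute hq hp (fun h => hqK (h ▸ hpK)) hx hy hxy⟩

/-- A prime `q` is joined to `p` when a normal subgroup has order `p ^ a ≢ 1 (mod q)`. -/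
theorem exists_mul_of_pGroup (N : Subgroup G) [N.Normal] {q p a : ℕ} (hq : q.Prime) (hp : p.Prime)
    (hqp : q ≠ p) (hqG : q ∣ Nat.card G) (hN : Nat.card N = p ^ a) (hmod : p ^ a % q ≠ 1) :
    ∃ g : G, orderOf g = q * p := by
  haveI : Fact q.Prime := ⟨hq⟩
  haveI : Fact p.Prime := ⟨hp⟩
  obtain ⟨x, hx⟩ := exists_prime_orderOf_dvd_card' q hqG
  obtain ⟨h, hh, hh1, hcomm⟩ := exists_commute_of_normalizes hq hx N
    (fun u hu => Normal.conj_mem inferInstance u hu x) (hN ▸ hmod)
  have hd : orderOf h ∣ p ^ a := hN ▸ Subgroup.orderOf_mk (ha := hh) ▸ orderOf_dvd_natCard _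
  obtain ⟨k, -, hk⟩ := (Nat.dvd_prime_pow hp).1 hd
  have hk0 : k ≠ 0 := fun h0 => hh1 (orderOf_eq_one_iff.1 (by rw [hk, h0, pow_zero]))
  refine ⟨_, orderOf_mul_of_commute hq hp hqp hx ?_ (hcomm.pow_right (p ^ (k - 1)))⟩
  rw [orderOf_pow' _ (pow_ne_zero _ hp.ne_zero), hk,
    Nat.gcd_eq_right (pow_dvd_pow p (Nat.sub_le k 1)), Nat.pow_div (Nat.sub_le k 1) hp.pos,
    show k - (k - 1) = 1 by omega, pow_one]

theorem pow_le_of_dvd {p e M b : ℕ} (hM : ¬ p ^ (b + 1) ∣ M) (h : p ^ e ∣ M) : e ≤ b := by
  by_contra hlt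
  exact hM ((pow_dvd_pow p (show b + 1 ≤ e by omega)).trans h)

/-- A group of order dividing 495 with elements of order 11 has a normal Sylow 11-subgroup. -/
theorem card_sylow_eleven_eq_one (hG : Nat.card G ∣ 495) (h11 : 11 ∣ Nat.card G) :
    Nat.card (Sylow 11 G) = 1 := by
  haveI : Fact (Nat.Prime 11) := ⟨by norm_num⟩
  obtain ⟨P⟩ : Nonempty (Sylow 11 G) := inferInstance
  obtain ⟨m, hm⟩ := h11
  have hm45 : m ∣ 45 := by
    rw [hm] at hG
    exact (Nat.mul_dvd_mul_iff_left (by norm_num : 0 < 11)).1 hG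
  have hm11 : ¬ 11 ∣ m := fun h => absurd (h.trans hm45) (by norm_num)
  have hd := SmallGroups.card_sylow_dvd_of_card_eq (a := 1) (by rw [hm, pow_one]) hm11 (p := 11) (G := G)
  have hmod := SmallGroups.mod_eq_one_card_sylow (p := 11) (G := G)
  have hle := Nat.le_of_dvd (by norm_num) (hd.trans hm45)
  have hd45 := hd.trans hm45
  have hn : Nat.card (Sylow 11 G) = 1 ∨ Nat.card (Sylow 11 G) = 45 := by
    generalize Nat.card (Sylow 11 G) = n at *
    interval_cases n <;> omega
  refine hn.resolve_right fun h45 => ?_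
  have hPc : Nat.card (P : Subgroup G) = 11 := by
    simpa using SmallGroups.card_sylow_eq (a := 1) (by rw [hm, pow_one]) hm11 P
  have hm' : m = 45 := Nat.dvd_antisymm hm45 (h45 ▸ hd)
  have hN : Nat.card (normalizer ((P : Subgroup G) : Set G)) = 11 := by
    have := SmallGroups.card_sylow_mul_card_normalizer P
    rw [h45, hm, hm'] at this
    omega
  refine normalizer_not_le_centralizer P hPc (p := 5) (by norm_num) (by norm_num) ?_ ?_ 495 hG
    (fun e he hd => ?_) ?_
  · rw [hm, hm']; norm_num
  · rw [hN]; norm_num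
  · have := pow_le_of_dvd (b := 1) (by norm_num) hd
    rw [show e = 1 by omega]; norm_num
  · haveI : IsCyclic (P : Subgroup G) := isCyclic_of_prime_card hPc
    have hPN : normalizer ((P : Subgroup G) : Set G) = P :=
      (eq_of_le_of_card_ge le_normalizer (by rw [hN, hPc])).symm
    rw [hPN]
    intro u hu
    refine mem_centralizer_iff.2 fun v hv => ?_
    exact congrArg Subtype.val ((IsCyclic.commGroup (α := (P : Subgroup G))).mul_comm ⟨v, hv⟩ ⟨u, hu⟩)

section Main

variable (hord : Nat.card G = 7920)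
  (hne : ∃ A : Set ℕ, ¬ ((2 ∈ A ↔ 11 ∈ A) ∧ (3 ∈ A ↔ 11 ∈ A) ∧ (5 ∈ A ↔ 11 ∈ A)) ∧
    ∀ a b, a ∈ [2, 3, 5, 11] → b ∈ [2, 3, 5, 11] → (∃ g : G, orderOf g = a * b) → (a ∈ A ↔ b ∈ A))

include hord hne

omit [Finite G] hord in
theorem no_tree {a b c a' b' c' : ℕ} (h₁ : ∃ g : G, orderOf g = a * a') (h₂ : ∃ g : G, orderOf g = b * b')
    (h₃ : ∃ g : G, orderOf g = c * c')
    (hm : ∀ i ∈ [a, a', b, b', c, c'], i ∈ [2, 3, 5, 11])
    (ht : ∀ R : ℕ → ℕ → Prop, (∀ x, R x x) → (∀ x y, R x y → R y x) →
      (∀ x y z, R x y → R y z → R x z) → R a a' → R b b' → R c c' → R 2 11 ∧ R 3 11 ∧ R 5 11) :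
    False := by
  obtain ⟨A, hno, hedge⟩ := hne
  exact hno (ht (fun x y => x ∈ A ↔ y ∈ A) (fun x => Iff.rfl) (fun x y h => h.symm) (fun x y z h h' => h.trans h')
    (hedge _ _ (hm _ (by simp)) (hm _ (by simp)) h₁) (hedge _ _ (hm _ (by simp)) (hm _ (by simp)) h₂)
    (hedge _ _ (hm _ (by simp)) (hm _ (by simp)) h₃))

theorem not_normal_eleven (N : Subgroup G) [N.Normal] (hN : Nat.card N = 11) : False := by
  haveI : Fact (Nat.Prime 11) := ⟨by norm_num⟩
  set C := centralizer (N : Set G) with hC
  have hi : C.index ∣ 10 := by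
    have := index_centralizer_dvd N
    rwa [card_mulAut_prime hN] at this
  have h792 : 792 ∣ Nat.card C := by
    obtain ⟨j, hj⟩ := hi
    have := C.card_mul_index
    rw [hord] at this
    refine ⟨j, Nat.eq_of_mul_eq_mul_right (Nat.pos_of_ne_zero (index_ne_zero_of_finite (H := C))) ?_⟩
    rw [this, mul_assoc, mul_comm j, ← hj]; norm_num
  have h2 := exists_mul_of_centralizer N (q := 11) (p := 2) (by norm_num) (by norm_num) (by norm_num)
    (by rw [hN]) (dvd_trans (by norm_num) h792)
  have h3 := exists_mul_of_centralizer N (q := 11) (p := 3) (by norm_num) (by norm_num) (by norm_num)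
    (by rw [hN]) (dvd_trans (by norm_num) h792)
  by_cases h5 : 5 ∣ Nat.card C
  · exact no_tree hne h2 h3 (exists_mul_of_centralizer N (q := 11) (p := 5) (by norm_num) (by norm_num)
      (by norm_num) (by rw [hN]) h5) (by decide) fun R hr hs ht a b c => ⟨hs _ _ a, hs _ _ b, hs _ _ c⟩
  · have hd : Nat.card C ∣ 1584 := by
      have := C.card_subgroup_dvd_card
      rw [hord, show (7920:ℕ) = 5 * 1584 by rfl] at this
      exact ((Nat.Prime.coprime_iff_not_dvd (by norm_num)).2 h5).symm.dvd_of_dvd_mul_left this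
    exact no_tree hne h2 h3 (exists_mul_of_coprime C (q := 5) (p := 3) (by norm_num) (by norm_num)
      (by rw [hord]; norm_num) h5 (dvd_trans (by norm_num) h792) 1584 hd (fun e he hd' => by
        have := pow_le_of_dvd (b := 2) (by norm_num) hd'
        rcases (show e = 1 ∨ e = 2 by omega) with rfl | rfl <;> norm_num))
      (by decide) fun R hr hs ht a b c => ⟨hs _ _ a, hs _ _ b, ht _ _ _ c (hs _ _ b)⟩

/-- A normal subgroup with a unique Sylow 11-subgroup of order 11 is impossible. -/
theorem not_normal_sylow_eleven (M : Subgroup G) [M.Normal] (h1 : Nat.card (Sylow 11 M) = 1)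
    (h11 : 11 ∣ Nat.card M) : False := by
  haveI : Fact (Nat.Prime 11) := ⟨by norm_num⟩
  obtain ⟨P⟩ : Nonempty (Sylow 11 M) := inferInstance
  haveI hP : (P : Subgroup M).Characteristic :=
    Sylow.characteristic_of_normal P (SmallGroups.sylow_normal_of_card_eq_one h1 P)
  haveI : ((P : Subgroup M).map M.subtype).Normal := inferInstance
  refine not_normal_eleven hord hne ((P : Subgroup M).map M.subtype) ?_
  rw [card_map_of_injective M.subtype_injective]
  obtain ⟨m, hm⟩ := h11
  have hm11 : ¬ 11 ∣ m := fun h => by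
    have h2 := M.card_subgroup_dvd_card
    rw [hm, hord] at h2
    have := (Nat.mul_dvd_mul_left 11 h).trans h2
    norm_num at this
  simpa using SmallGroups.card_sylow_eq (a := 1) (by rw [hm, pow_one]) hm11 P

theorem not_normal_pGroup (N : Subgroup G) [N.Normal] {r a : ℕ} (hr : r.Prime) (ha : 0 < a)
    (hN : Nat.card N = r ^ a) : False := by
  have hdG : r ^ a ∣ 7920 := hord ▸ hN ▸ N.card_subgroup_dvd_card
  have hr7 : r ∣ 7920 := (dvd_pow_self r ha.ne').trans hdG
  have hr' : r = 2 ∨ r = 3 ∨ r = 5 ∨ r = 11 := by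
    have := (Nat.mem_primeFactors).2 ⟨hr, hr7, by norm_num⟩
    rw [show (7920 : ℕ) = 2 ^ 4 * 3 ^ 2 * 5 * 11 by rfl, Nat.primeFactors_mul (by norm_num) (by norm_num),
      Nat.primeFactors_mul (by norm_num) (by norm_num), Nat.primeFactors_mul (by norm_num) (by norm_num),
      Nat.primeFactors_prime_pow (by norm_num) Nat.prime_two,
      Nat.primeFactors_prime_pow (by norm_num) Nat.prime_three, Nat.Prime.primeFactors (by norm_num),
      Nat.Prime.primeFactors (by norm_num)] at this
    simpa [or_assoc] using this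
  set C := centralizer (N : Set G) with hC
  have hmul := C.card_mul_index
  rw [hord] at hmul
  have hidx : C.index ∣ (r ^ a - 1).factorial :=
    hN ▸ (index_centralizer_dvd N).trans (card_mulAut_dvd_factorial N)
  have hself : r ∣ Nat.card N := hN ▸ dvd_pow_self r ha.ne'
  have hpC : ∀ (p n k : ℕ), p.Prime → n * k = 7920 → p ∣ n → C.index ∣ k → p ∣ Nat.card C := by
    intro p n k _ hnk hpn hk
    obtain ⟨j, rfl⟩ := hk
    refine hpn.trans ⟨j, Nat.eq_of_mul_eq_mul_right (Nat.pos_of_ne_zero (index_ne_zero_of_finite (H := C))) ?_⟩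
    rw [hmul, ← hnk]; ring
  have hgcd : C.index ∣ Nat.gcd ((r ^ a - 1).factorial) 7920 :=
    Nat.dvd_gcd hidx (Dvd.intro_left _ hmul)
  rcases hr' with rfl | rfl | rfl | rfl
  · -- r = 2
    have hale : a ≤ 4 := pow_le_of_dvd (b := 4) (by norm_num) hdG
    have h11 := exists_mul_of_coprime N (q := 11) (p := 2) (by norm_num) (by norm_num)
      (by rw [hord]; norm_num) (by rw [hN]; interval_cases a <;> norm_num) hself (2 ^ a) (dvd_of_eq hN)
      (fun e he hd => by
        have := (Nat.pow_dvd_pow_iff_le_right (show 1 < 2 by norm_num)).1 hd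
        interval_cases a <;> interval_cases e <;> norm_num)
    rcases (show a ≤ 3 ∨ a = 4 by omega) with h3 | rfl
    · have h5 := exists_mul_of_coprime N (q := 5) (p := 2) (by norm_num) (by norm_num)
        (by rw [hord]; norm_num) (by rw [hN]; interval_cases a <;> norm_num) hself (2 ^ a) (dvd_of_eq hN)
        (fun e he hd => by
          have := (Nat.pow_dvd_pow_iff_le_right (show 1 < 2 by norm_num)).1 hd
          interval_cases a <;> interval_cases e <;> norm_num)
      by_cases ha2 : a = 2
      · subst ha2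
        have h3' := exists_mul_of_centralizer N (q := 2) (p := 3) (by norm_num) (by norm_num) (by norm_num)
          hself (hpC 3 1320 6 (by norm_num) (by norm_num) (by norm_num)
            (hgcd.trans (by norm_num [Nat.factorial])))
        exact no_tree hne h11 h5 h3' (by decide) fun R hr hs ht x y z =>
          ⟨hs _ _ x, ht _ _ _ (hs _ _ z) (hs _ _ x), ht _ _ _ y (hs _ _ x)⟩
      · have h3' := exists_mul_of_pGroup N (q := 3) (p := 2) (a := a) (by norm_num) Nat.prime_two (by norm_num)
          (by rw [hord]; norm_num) hN (by interval_cases a <;> first | exact absurd rfl ha2 | norm_num)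
        exact no_tree hne h11 h5 h3' (by decide) fun R hr hs ht x y z =>
          ⟨hs _ _ x, ht _ _ _ z (hs _ _ x), ht _ _ _ y (hs _ _ x)⟩
    · -- order 16
      haveI : Fact (Nat.Prime 11) := ⟨by norm_num⟩
      have hq : Nat.card (G ⧸ N) = 495 := by
        have := N.card_eq_card_quotient_mul_card_subgroup
        rw [hord, hN] at this
        omega
      have hone := card_sylow_eleven_eq_one (G := G ⧸ N) (by rw [hq]) (by rw [hq]; norm_num)
      obtain ⟨P⟩ : Nonempty (Sylow 11 (G ⧸ N)) := inferInstance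
      haveI : (P : Subgroup (G ⧸ N)).Normal := SmallGroups.sylow_normal_of_card_eq_one hone P
      have hPc : Nat.card (P : Subgroup (G ⧸ N)) = 11 := by
        simpa using SmallGroups.card_sylow_eq (a := 1) (m := 45) (by rw [hq]; rfl) (by norm_num) P
      have hM : Nat.card ((P : Subgroup (G ⧸ N)).comap (QuotientGroup.mk' N)) = 176 := by
        rw [Solvable.card_comap_mk', hN, hPc]; norm_num
      refine not_normal_sylow_eleven hord hne ((P : Subgroup (G ⧸ N)).comap (QuotientGroup.mk' N)) ?_
        (by rw [hM]; norm_num)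
      have := SmallGroups.card_sylow_mem_filter (p := 11) (a := 1) (m := 16)
        (G := ((P : Subgroup (G ⧸ N)).comap (QuotientGroup.mk' N))) (by rw [hM]; rfl) (by norm_num)
      have h16 : ∀ m ∈ (Finset.range (16 + 1)).filter (fun d => 16 % d = 0 ∧ d % 11 = 1), m = 1 := by decide
      exact h16 _ this
  · -- r = 3
    have hale : a ≤ 2 := pow_le_of_dvd (b := 2) (by norm_num) hdG
    have hN3 : ∀ q : ℕ, q = 5 ∨ q = 11 → ∃ g : G, orderOf g = q * 3 := fun q hq =>
      exists_mul_of_coprime N (by rcases hq with rfl | rfl <;> norm_num) (by norm_num)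
        (by rw [hord]; rcases hq with rfl | rfl <;> norm_num)
        (by rw [hN]; rcases hq with rfl | rfl <;> interval_cases a <;> norm_num) hself (3 ^ a) (dvd_of_eq hN)
        (fun e he hd => by
          have := (Nat.pow_dvd_pow_iff_le_right (show 1 < 3 by norm_num)).1 hd
          rcases hq with rfl | rfl <;> interval_cases a <;> interval_cases e <;> norm_num)
    by_cases h2 : 2 ∣ Nat.card C
    · exact no_tree hne (hN3 5 (by simp)) (hN3 11 (by simp))
        (exists_mul_of_centralizer N (q := 3) (p := 2) (by norm_num) (by norm_num) (by norm_num) hself h2)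
        (by decide) fun R hr hs ht x y z =>
          ⟨ht _ _ _ (hs _ _ z) (hs _ _ y), hs _ _ y, ht _ _ _ x (hs _ _ y)⟩
    · have hd : Nat.card C ∣ 495 := by
        have := C.card_subgroup_dvd_card
        rw [hord, show (7920:ℕ) = 2 ^ 4 * 495 by rfl] at this
        exact (Nat.Coprime.pow_left 4 ((Nat.Prime.coprime_iff_not_dvd Nat.prime_two).2 h2)).symm
          |>.dvd_of_dvd_mul_left this
      have h11 : 11 ∣ Nat.card C := by
        refine hpC 11 11 720 (by norm_num) (by norm_num) dvd_rfl (hgcd.trans ?_)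
        interval_cases a <;> norm_num [Nat.factorial]
      exact not_normal_sylow_eleven hord hne C (card_sylow_eleven_eq_one hd h11) h11
  · -- r = 5
    have ha1 : a = 1 := le_antisymm (pow_le_of_dvd (b := 1) (by norm_num) hdG) ha
    subst ha1
    rw [pow_one] at hN
    haveI : Fact (Nat.Prime 5) := ⟨by norm_num⟩
    have hi : C.index ∣ 4 := by
      have := index_centralizer_dvd N
      rwa [card_mulAut_prime hN] at this
    have h2 := exists_mul_of_centralizer N (q := 5) (p := 2) (by norm_num) (by norm_num) (by norm_num)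
      hself (hpC 2 1980 4 (by norm_num) (by norm_num) (by norm_num) hi)
    have h3 := exists_mul_of_centralizer N (q := 5) (p := 3) (by norm_num) (by norm_num) (by norm_num)
      hself (hpC 3 1980 4 (by norm_num) (by norm_num) (by norm_num) hi)
    have h11 := exists_mul_of_centralizer N (q := 5) (p := 11) (by norm_num) (by norm_num) (by norm_num)
      hself (hpC 11 1980 4 (by norm_num) (by norm_num) (by norm_num) hi)
    exact no_tree hne h2 h3 h11 (by decide) fun R hr hs ht x y z =>
      ⟨ht _ _ _ (hs _ _ x) z, ht _ _ _ (hs _ _ y) z, z⟩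
  · -- r = 11
    have ha1 : a = 1 := le_antisymm (pow_le_of_dvd (b := 1) (by norm_num) hdG) ha
    subst ha1
    exact not_normal_eleven hord hne N (by rw [hN, pow_one])

theorem no_solvable_normal (N : Subgroup G) [N.Normal] (hN : N ≠ ⊥) [Group.IsSolvable N] : False := by
  obtain ⟨M, hM, hM0, hMN, hmin⟩ := Solvable.exists_minimal_normal_le N hN
  haveI : Group.IsSolvable M := solvable_of_solvable_injective (inclusion_injective hMN)
  obtain ⟨p, a, hp, ha, -, hc⟩ := Solvable.exists_pow_card_of_minimal_normal M hM0 hmin inferInstance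
  exact not_normal_pGroup hord hne M hp ha hc

theorem no_forty_five (h45 : Nat.card (Sylow 11 G) = 45) : False := by
  haveI : Fact (Nat.Prime 11) := ⟨by norm_num⟩
  haveI : Fact (Nat.Prime 2) := ⟨by norm_num⟩
  set H : Subgroup G := closure {g : G | Odd (orderOf g)} with hH
  haveI hHn : H.Normal := by
    refine normalizer_eq_top_iff.1 (eq_top_iff.2 fun g _ => ?_)
    refine mem_normalizer_iff.2 fun u => ?_
    have key : ∀ g u : G, u ∈ H → g * u * g⁻¹ ∈ H := fun g u hu => by
      have hle : H ≤ H.comap (MulAut.conj g).toMonoidHom := by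
        rw [hH, closure_le]
        intro v hv
        refine subset_closure ?_
        show Odd (orderOf (MulAut.conj g v))
        rw [MulEquiv.orderOf_eq]
        exact hv
      exact hle hu
    refine ⟨key g u, fun h => ?_⟩
    have := key g⁻¹ _ h
    simpa [mul_assoc] using this
  have hq2 : IsPGroup 2 (G ⧸ H) := fun z => by
    obtain ⟨g, rfl⟩ := QuotientGroup.mk'_surjective H z
    obtain ⟨k, m, hm, hk⟩ := Nat.exists_eq_two_pow_mul_odd (orderOf_pos g).ne'
    refine ⟨k, ?_⟩
    rw [← map_pow, QuotientGroup.mk'_apply, QuotientGroup.eq_one_iff]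
    refine subset_closure ?_
    show Odd (orderOf (g ^ 2 ^ k))
    rw [orderOf_pow_of_dvd (pow_ne_zero _ two_ne_zero) ⟨m, hk⟩, hk, Nat.mul_div_cancel_left _ (pow_pos two_pos k)]
    exact hm
  obtain ⟨j, hj⟩ := IsPGroup.iff_card.1 hq2
  have hmul := H.card_eq_card_quotient_mul_card_subgroup
  rw [hord, hj] at hmul
  have hj4 : j ≤ 4 := pow_le_of_dvd (p := 2) (M := 7920) (b := 4) (by norm_num) (Dvd.intro _ hmul.symm)
  have hHc : Nat.card H = 495 * 2 ^ (4 - j) := by
    interval_cases j <;> omega
  have h11 : 11 ∣ Nat.card H := hHc ▸ Dvd.dvd.mul_right (by norm_num) _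
  have hsyl : Nat.card (Sylow 11 H) = 45 := by
    rw [← h45]
    obtain ⟨P⟩ : Nonempty (Sylow 11 G) := inferInstance
    refine Nat.card_congr ?_
    have hle : ∀ Q : Sylow 11 G, (Q : Subgroup G) ≤ H := fun Q u hu => subset_closure (by
      obtain ⟨k, hk⟩ := IsPGroup.iff_orderOf.1 Q.isPGroup' ⟨u, hu⟩
      rw [Subgroup.orderOf_mk] at hk
      show Odd (orderOf u)
      rw [hk]; exact (by decide : Odd 11).pow)
    refine (Equiv.ofBijective (fun Q => Q.subtype (hle Q)) ⟨fun Q R h => ?_, fun R => ?_⟩).symm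
    · exact Sylow.subtype_injective h
    · obtain ⟨Q, hQ⟩ := (R.isPGroup'.map H.subtype).exists_le_sylow
      refine ⟨Q, ?_⟩
      have : (R : Subgroup H) ≤ (Q.subtype (hle Q) : Sylow 11 H) := fun u hu => hQ ⟨u, hu, rfl⟩
      exact Sylow.ext (R.is_maximal' (Q.subtype (hle Q)).isPGroup' this)
  refine forty_five_false (H := H) (by omega : 4 - j ≤ 4) hHc hsyl (fun M hM => ?_) (fun K hK hK2 => ?_)
  · haveI : M.Normal := normal_of_index_eq_two hM
    have hle : H ≤ M.map H.subtype := by
      refine (closure_le (k := {g : G | Odd (orderOf g)}) (M.map H.subtype)).2 ?_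
      intro g hg
      refine ⟨⟨g, subset_closure hg⟩, ?_, rfl⟩
      rw [SetLike.mem_coe, ← QuotientGroup.eq_one_iff, ← orderOf_eq_one_iff]
      have h1 : orderOf ((⟨g, subset_closure hg⟩ : H) : H ⧸ M) ∣ 2 :=
        hM ▸ (index_eq_card M ▸ orderOf_dvd_natCard _)
      have h2 : orderOf ((⟨g, subset_closure hg⟩ : H) : H ⧸ M) ∣ orderOf g := by
        rw [← Subgroup.orderOf_mk (ha := (subset_closure hg : g ∈ H))]
        exact orderOf_map_dvd (QuotientGroup.mk' M) _
      exact Nat.eq_one_of_dvd_coprimes (Nat.coprime_two_left.2 hg) h1 h2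
    have hMt : M = ⊤ := by
      refine (eq_top_iff' M).2 fun u => ?_
      obtain ⟨v, hv, hvu⟩ := hle u.2
      exact Subtype.ext hvu ▸ hv
    rw [hMt, index_top] at hM
    norm_num at hM
  · by_contra hK0
    haveI := hK
    haveI hchar : (Cfsg.pCore 2 H).Characteristic := Cores.pCore_characteristic 2
    haveI : ((Cfsg.pCore 2 H).map H.subtype).Normal := inferInstance
    have hne' : (Cfsg.pCore 2 H).map H.subtype ≠ ⊥ := fun h => hK0 (le_bot_iff.1 (by
      rw [← (map_eq_bot_iff_of_injective _ H.subtype_injective).1 h]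
      exact Cores.le_pCore hK2))
    obtain ⟨k, hk⟩ := IsPGroup.iff_card.1 ((Cores.isPGroup_pCore (G := H) 2).map H.subtype)
    refine not_normal_pGroup hord hne _ Nat.prime_two (Nat.pos_of_ne_zero ?_) hk
    rintro rfl
    exact hne' (card_eq_one.1 (by simpa using hk))

theorem no_proper_normal (N : Subgroup G) [N.Normal] (hN : N ≠ ⊥) (hN' : N ≠ ⊤) : False := by
  haveI : Fact (Nat.Prime 11) := ⟨by norm_num⟩
  have hdG : Nat.card N ∣ 7920 := hord ▸ N.card_subgroup_dvd_card
  have hns : ¬ Group.IsSolvable N := fun h => no_solvable_normal hord hne N hN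
  by_cases h11 : 11 ∣ Nat.card N
  swap
  · have h720 : Nat.card N ∣ 720 := by
      rw [show (7920:ℕ) = 11 * 720 by rfl] at hdG
      exact ((Nat.Prime.coprime_iff_not_dvd (by norm_num)).2 h11).symm.dvd_of_dvd_mul_left hdG
    have hdiv : ∀ p, p = 2 ∨ p = 3 ∨ p = 5 → p ∣ Nat.card N := by
      intro p hp
      by_contra hpN
      apply hns
      rcases hp with rfl | rfl | rfl
      · refine Char.isSolvable_of_card_eq_pow_mul_pow (p := 3) (q := 5) (by norm_num) (by norm_num)
          (a := 2) (b := 1) ?_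
        exact (((Nat.Prime.coprime_iff_not_dvd Nat.prime_two).2 hpN).pow_left 4).symm.dvd_of_dvd_mul_left
          (show Nat.card N ∣ 2 ^ 4 * (3 ^ 2 * 5 ^ 1) from h720)
      · refine Char.isSolvable_of_card_eq_pow_mul_pow (p := 2) (q := 5) (by norm_num) (by norm_num)
          (a := 4) (b := 1) ?_
        exact (((Nat.Prime.coprime_iff_not_dvd Nat.prime_three).2 hpN).pow_left 2).symm.dvd_of_dvd_mul_left
          (show Nat.card N ∣ 3 ^ 2 * (2 ^ 4 * 5 ^ 1) from h720)
      · refine Char.isSolvable_of_card_eq_pow_mul_pow (p := 2) (q := 3) (by norm_num) (by norm_num)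
          (a := 4) (b := 2) ?_
        exact ((Nat.Prime.coprime_iff_not_dvd (by norm_num)).2 hpN).symm.dvd_of_dvd_mul_left
          (show Nat.card N ∣ 5 * (2 ^ 4 * 3 ^ 2) from h720)
    have hA : ∀ p, p = 2 ∨ p = 3 ∨ p = 5 → ∃ g : G, orderOf g = 11 * p := by
      intro p hp
      refine exists_mul_of_coprime N (by norm_num) (by rcases hp with rfl | rfl | rfl <;> norm_num)
        (by rw [hord]; norm_num) h11 (hdiv p hp) 720 h720 (fun e he hd => ?_)
      rcases hp with rfl | rfl | rfl
      · have := pow_le_of_dvd (b := 4) (by norm_num) hd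
        interval_cases e <;> norm_num
      · have := pow_le_of_dvd (b := 2) (by norm_num) hd
        interval_cases e <;> norm_num
      · have := pow_le_of_dvd (b := 1) (by norm_num) hd
        interval_cases e <;> norm_num
    exact no_tree hne (hA 2 (by simp)) (hA 3 (by simp)) (hA 5 (by simp)) (by decide)
      fun R hr hs ht a b c => ⟨hs _ _ a, hs _ _ b, hs _ _ c⟩
  -- now `11 ∣ |N|`
  obtain ⟨P⟩ : Nonempty (Sylow 11 G) := inferInstance
  have hPc : Nat.card (P : Subgroup G) = 11 := by
    simpa using SmallGroups.card_sylow_eq (a := 1) (m := 720) (by rw [hord]; rfl) (by norm_num) P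
  set NP := normalizer ((P : Subgroup G) : Set G) with hNP
  have hmul : Nat.card (Sylow 11 G) * Nat.card NP = 7920 :=
    hord ▸ SmallGroups.card_sylow_mul_card_normalizer P
  have hn : Nat.card (Sylow 11 G) = 1 ∨ Nat.card (Sylow 11 G) = 12 ∨ Nat.card (Sylow 11 G) = 45 ∨
      Nat.card (Sylow 11 G) = 144 := by
    have h1 : Nat.card (Sylow 11 G) ∣ 720 :=
      SmallGroups.card_sylow_dvd_of_card_eq (a := 1) (by rw [hord]; rfl) (by norm_num)
    have h2 : Nat.card (Sylow 11 G) % 11 = 1 := SmallGroups.mod_eq_one_card_sylow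
    have h3 := (Nat.mem_divisors).2 ⟨h1, by norm_num⟩
    generalize Nat.card (Sylow 11 G) = n at *
    have : ∀ m ∈ Nat.divisors 720, m % 11 = 1 → m = 1 ∨ m = 12 ∨ m = 45 ∨ m = 144 := by decide +kernel
    exact this n h3 h2
  rcases hn with h | h | h | h
  · haveI : (P : Subgroup G).Normal := SmallGroups.sylow_normal_of_card_eq_one h P
    exact not_normal_eleven hord hne (P : Subgroup G) hPc
  · -- twelve Sylow 11-subgroups
    have hNPc : Nat.card NP = 660 := by rw [h] at hmul; omega
    set C := centralizer ((P : Subgroup G) : Set G) with hC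
    have hrel : C.relIndex NP ∣ 10 := by
      have := relIndex_centralizer_dvd (P : Subgroup G)
      rwa [card_mulAut_prime hPc] at this
    have hCmul : Nat.card C * C.relIndex NP = 660 := by
      have h' := relIndex_mul_relIndex ⊥ C NP bot_le (centralizer_le_normalizer _)
      rwa [relIndex_bot_left, relIndex_bot_left, hNPc] at h'
    have h66 : 66 ∣ Nat.card C := by
      obtain ⟨j, hj⟩ := hrel
      refine ⟨j, Nat.eq_of_mul_eq_mul_right (Nat.pos_of_ne_zero (index_ne_zero_of_finite :
        (C.subgroupOf NP).index ≠ 0)) ?_⟩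
      show Nat.card C * C.relIndex NP = 66 * j * C.relIndex NP
      rw [hCmul, mul_assoc, mul_comm j, ← hj]; norm_num
    have hP11 : 11 ∣ Nat.card (P : Subgroup G) := by rw [hPc]
    have h2 := exists_mul_of_centralizer (P : Subgroup G) (q := 11) (p := 2) (by norm_num) (by norm_num)
      (by norm_num) hP11 (dvd_trans (by norm_num) h66)
    have h3 := exists_mul_of_centralizer (P : Subgroup G) (q := 11) (p := 3) (by norm_num) (by norm_num)
      (by norm_num) hP11 (dvd_trans (by norm_num) h66)
    by_cases h5 : 5 ∣ Nat.card C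
    · exact no_tree hne h2 h3 (exists_mul_of_centralizer (P : Subgroup G) (q := 11) (p := 5) (by norm_num)
        (by norm_num) (by norm_num) hP11 h5) (by decide) fun R hr hs ht a b c =>
        ⟨hs _ _ a, hs _ _ b, hs _ _ c⟩
    · have hKc : Nat.card (C.subgroupOf NP) = Nat.card C :=
        Nat.card_congr (subgroupOfEquivOfLe (centralizer_le_normalizer _)).toEquiv
      haveI : (C.subgroupOf NP).Normal := normalizerMonoidHom_ker (H := (P : Subgroup G)) ▸
        MonoidHom.normal_ker _
      obtain ⟨g, hg⟩ := exists_mul_of_coprime (G := NP) (C.subgroupOf NP) (q := 5) (p := 2) (by norm_num)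
        (by norm_num) (by rw [hNPc]; norm_num) (by rw [hKc]; exact h5)
        (by rw [hKc]; exact dvd_trans (by norm_num) h66) 660
        (by rw [hKc]; exact Dvd.intro _ hCmul) (fun e he hd => by
          have := pow_le_of_dvd (b := 2) (by norm_num) hd
          interval_cases e <;> norm_num)
      exact no_tree hne h2 h3 ⟨(g : G), by rw [Subgroup.orderOf_coe, hg]⟩ (by decide) fun R hr hs ht a b c =>
        ⟨hs _ _ a, hs _ _ b, ht _ _ _ c (hs _ _ a)⟩
  · exact no_forty_five hord hne h
  · -- 144 Sylow 11-subgroups: self-centralizing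
    have hNPc : Nat.card NP = 55 := by rw [h] at hmul; omega
    have hle : ∀ Q : Sylow 11 G, (Q : Subgroup G) ≤ N := fun Q => by
      obtain ⟨R⟩ : Nonempty (Sylow 11 N) := inferInstance
      have hR : Nat.card ((R : Subgroup N).map N.subtype) = 11 := by
        rw [card_map_of_injective N.subtype_injective]
        obtain ⟨m, hm⟩ := h11
        have hm11 : ¬ 11 ∣ m := fun hd => by
          have := hdG
          rw [hm] at this
          have := (Nat.mul_dvd_mul_left 11 hd).trans this
          norm_num at this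
        simpa using SmallGroups.card_sylow_eq (a := 1) (by rw [hm, pow_one]) hm11 R
      obtain ⟨g, hg⟩ := MulAction.exists_smul_eq G (Sylow.ofCard ((R : Subgroup N).map N.subtype) (by
        rw [hR, hord, show (7920:ℕ) = 720 * 11 ^ 1 by rfl, Nat.factorization_mul (by norm_num) (by norm_num),
          Finsupp.add_apply, Nat.Prime.factorization_pow (by norm_num), Finsupp.single_eq_same,
          Nat.factorization_eq_zero_of_not_dvd (show ¬ 11 ∣ 720 by norm_num), zero_add, pow_one])) Q
      rw [← hg, Sylow.coe_subgroup_smul]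
      intro u hu
      obtain ⟨v, hv, hvu⟩ := hu
      rw [← hvu]
      exact Normal.conj_mem inferInstance v (map_subtype_le _ hv) g
    have hN144 : Nat.card (Sylow 11 N) = 144 := by
      rw [← h]
      refine Nat.card_congr (Equiv.ofBijective (fun Q : Sylow 11 G => Q.subtype (hle Q))
        ⟨fun Q R h => Sylow.subtype_injective h, fun R => ?_⟩).symm
      obtain ⟨Q, hQ⟩ := (R.isPGroup'.map N.subtype).exists_le_sylow
      refine ⟨Q, ?_⟩
      have : (R : Subgroup N) ≤ (Q.subtype (hle Q) : Sylow 11 N) := fun u hu => hQ ⟨u, hu, rfl⟩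
      exact Sylow.ext (R.is_maximal' (Q.subtype (hle Q)).isPGroup' this)
    let R : Sylow 11 N := P.subtype (hle P)
    have hRc : Nat.card (R : Subgroup N) = 11 :=
      (Nat.card_congr (subgroupOfEquivOfLe (hle P)).toEquiv).trans hPc
    have hmulN := SmallGroups.card_sylow_mul_card_normalizer R
    rw [hN144] at hmulN
    have hNR : Nat.card (normalizer ((R : Subgroup N) : Set N)) = 11 := by
      have h1 : Nat.card N < 7920 := by
        refine lt_of_le_of_ne (Nat.le_of_dvd (by norm_num) hdG) fun hc => hN' ?_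
        exact (card_eq_iff_eq_top N).1 (by rw [hc, hord])
      have h2 : 11 ∣ Nat.card (normalizer ((R : Subgroup N) : Set N)) :=
        (dvd_of_eq hRc.symm).trans (card_dvd_of_le le_normalizer)
      have h3 : 144 * Nat.card (normalizer ((R : Subgroup N) : Set N)) ∣ 144 * 55 := by
        rw [hmulN]; exact hdG
      have h4 := (Nat.mul_dvd_mul_iff_left (by norm_num : 0 < 144)).1 h3
      obtain ⟨t, ht⟩ := h2
      rw [ht] at h4 hmulN ⊢
      have h5 : t ∣ 5 := (Nat.mul_dvd_mul_iff_left (by norm_num : 0 < 11)).1 h4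
      rcases (Nat.dvd_prime (by norm_num : Nat.Prime 5)).1 h5 with rfl | rfl
      · rfl
      · omega
    refine normalizer_not_le_centralizer R hRc (p := 3) (by norm_num) (by norm_num)
      (by rw [← hmulN]; exact Dvd.dvd.mul_right (by norm_num) _) (by rw [hNR]; norm_num) 7920 hdG
      (fun e he hd => ?_) ?_
    · have := pow_le_of_dvd (b := 2) (by norm_num) hd
      interval_cases e <;> norm_num
    · haveI : IsCyclic (R : Subgroup N) := isCyclic_of_prime_card hRc
      have hRN : normalizer ((R : Subgroup N) : Set N) = R :=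
        (eq_of_le_of_card_ge le_normalizer (by rw [hNR, hRc])).symm
      rw [hRN]
      intro u hu
      refine mem_centralizer_iff.2 fun v hv => ?_
      exact congrArg Subtype.val ((IsCyclic.commGroup (α := (R : Subgroup N))).mul_comm ⟨v, hv⟩ ⟨u, hu⟩)

end Main

end CfsgLib.KnownSimple.Order7920
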