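import Cfsg.Agent.Lib.SmallGroups.Basic

/-!
Commuting elements from coprime actions, and a consequence of Burnside's transfer theorem, for groups of
order dividing 7920.
-/

set_option autoImplicit false

namespace CfsgLib.KnownSimple.Order7920

open Subgroup

variable {G : Type*} [Group G] [Finite G]

/-- A permutation of exponent dividing the prime `q` has as many fixed points, modulo `q`, as points. -/
theorem perm_fixed_modEq {α : Type*} [Finite α] {q : ℕ} [Fact q.Prime] (σ : Equiv.Perm α)
    (hσ : σ ^ q = 1) : Nat.card α ≡ Nat.card {a : α // σ a = a} [MOD q] := by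
  have hP : IsPGroup q (zpowers σ) := by
    obtain ⟨k, -, hk⟩ := (Nat.dvd_prime_pow Fact.out).1
      (show orderOf σ ∣ q ^ 1 by rw [pow_one]; exact orderOf_dvd_of_pow_eq_one hσ)
    exact IsPGroup.of_card (n := k) (by rw [Nat.card_zpowers, hk])
  refine (hP.card_modEq_card_fixedPoints α).trans ?_
  rw [Nat.card_congr (Equiv.subtypeEquivRight (p := fun a => a ∈ MulAction.fixedPoints (zpowers σ) α)
    (q := fun a => σ a = a) fun a => ⟨fun h => h ⟨σ, mem_zpowers σ⟩, fun h g => ?_⟩)]
  obtain ⟨m, hm⟩ := g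
  obtain ⟨m, rfl⟩ := hm
  exact Equiv.Perm.zpow_apply_eq_self_of_apply_eq_self h m

theorem exists_commute_of_normalizes {x : G} {q : ℕ} (hq : q.Prime) (hx : orderOf x = q)
    (H : Subgroup G) (hn : ∀ h ∈ H, x * h * x⁻¹ ∈ H) (hc : Nat.card H % q ≠ 1) :
    ∃ h ∈ H, h ≠ 1 ∧ Commute x h := by
  haveI : Fact q.Prime := ⟨hq⟩
  have hinj : Function.Injective (fun h : H => (⟨x * h * x⁻¹, hn h h.2⟩ : H)) := fun a b h =>
    Subtype.ext (mul_left_cancel (mul_right_cancel (congrArg Subtype.val h)))
  let σ : Equiv.Perm H := Equiv.ofBijective _ ⟨hinj, (Finite.injective_iff_surjective).1 hinj⟩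
  have hpow : ∀ n (h : H), ((σ ^ n) h : G) = x ^ n * h * (x ^ n)⁻¹ := by
    intro n
    induction n with
    | zero => intro h; simp
    | succ n ih =>
      intro h
      rw [pow_succ', Equiv.Perm.mul_apply]
      show x * _ * x⁻¹ = _
      rw [ih]; group
  have hσ : σ ^ q = 1 := Equiv.ext fun h => Subtype.ext (by
    rw [hpow, ← hx, pow_orderOf_eq_one]; simp)
  by_contra hne
  apply hc
  have h1 := perm_fixed_modEq σ hσ
  have : Unique {a : H // σ a = a} :=
    { default := ⟨1, Subtype.ext (by show x * _ * x⁻¹ = _; simp)⟩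
      uniq := fun a => by
        have ha : x * (a.1 : G) * x⁻¹ = a.1 := congrArg Subtype.val a.2
        by_contra hane
        refine hne ⟨a.1, a.1.2, fun h1 => hane (Subtype.ext (Subtype.ext h1)), ?_⟩
        exact mul_inv_eq_iff_eq_mul.1 ha }
  rw [Nat.card_unique (α := {a : H // σ a = a}), Nat.ModEq, Nat.mod_eq_of_lt hq.one_lt] at h1
  exact h1

/-- An element of prime order `q` acting on a normal subgroup of order prime to `q` centralizes an
element of each prime order `p` for which no power of `p` dividing the order is `1` modulo `q`. -/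
theorem exists_commute_of_coprime (K : Subgroup G) [K.Normal] {x : G} {q p : ℕ} (hq : q.Prime)
    (hp : p.Prime) (hx : orderOf x = q) (hqK : ¬ q ∣ Nat.card K) (hpK : p ∣ Nat.card K)
    (M : ℕ) (hKM : Nat.card K ∣ M) (hM : ∀ e, 0 < e → p ^ e ∣ M → p ^ e % q ≠ 1) :
    ∃ y ∈ K, orderOf y = p ∧ Commute x y := by
  haveI : Fact q.Prime := ⟨hq⟩
  haveI : Fact p.Prime := ⟨hp⟩
  let σ : Equiv.Perm (Sylow p K) :=
    MulAction.toPermHom (MulAut K) (Sylow p K) (MulAut.conjNormal x)
  have hσ : σ ^ q = 1 := by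
    show (MulAction.toPermHom (MulAut K) (Sylow p K) (MulAut.conjNormal x)) ^ q = 1
    rw [← map_pow, ← map_pow, ← hx, pow_orderOf_eq_one, map_one, map_one]
  have h1 := perm_fixed_modEq σ hσ
  have hne : Nat.card {a : Sylow p K // σ a = a} ≠ 0 := by
    intro h0
    rw [h0, Nat.modEq_zero_iff_dvd] at h1
    exact hqK (h1.trans SmallGroups.card_sylow_dvd_card)
  obtain ⟨⟨R, hR⟩⟩ := (Nat.card_ne_zero.1 hne).1
  have hmem : ∀ h ∈ (R : Subgroup K).map K.subtype, x * h * x⁻¹ ∈ (R : Subgroup K).map K.subtype := by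
    rintro _ ⟨k, hk, rfl⟩
    refine ⟨MulAut.conjNormal x k, ?_, by simp⟩
    have h2 : MulAut.conjNormal (H := K) x • k ∈
        (((MulAut.conjNormal (H := K) x) • R : Sylow p K) : Subgroup K) := by
      rw [Sylow.pointwise_smul_def]
      exact Subgroup.smul_mem_pointwise_smul k _ _ hk
    rw [show (MulAut.conjNormal (H := K) x) • R = R from hR] at h2
    exact h2
  obtain ⟨e, he⟩ := R.isPGroup'.exists_card_eq
  have hepos : 0 < e := by
    rcases Nat.eq_zero_or_pos e with rfl | h
    · have := R.dvd_card_of_dvd_card hpK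
      rw [he, pow_zero] at this
      exact absurd (Nat.dvd_one.1 this) hp.ne_one
    · exact h
  have hcard : Nat.card ((R : Subgroup K).map K.subtype) = p ^ e := by
    rw [Subgroup.card_map_of_injective K.subtype_injective, he]
  obtain ⟨h, hh, hh1, hcomm⟩ := exists_commute_of_normalizes hq hx _ hmem (by
    rw [hcard]
    exact hM e hepos (he ▸ ((R : Subgroup K).card_subgroup_dvd_card.trans hKM)))
  have hP : IsPGroup p ((R : Subgroup K).map K.subtype) := IsPGroup.of_card hcard
  obtain ⟨n, hn⟩ := IsPGroup.iff_orderOf.1 hP ⟨h, hh⟩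
  rw [Subgroup.orderOf_mk] at hn
  have hn0 : n ≠ 0 := fun h0 => hh1 (orderOf_eq_one_iff.1 (by rw [hn, h0, pow_zero]))
  refine ⟨h ^ p ^ (n - 1), ?_, ?_, hcomm.pow_right _⟩
  · obtain ⟨k, -, hk⟩ := hh
    exact pow_mem (hk ▸ k.2) _
  · rw [orderOf_pow' _ (pow_ne_zero _ hp.ne_zero), hn,
      Nat.gcd_eq_right (pow_dvd_pow p (Nat.sub_le n 1)), Nat.pow_div (Nat.sub_le n 1) hp.pos,
      show n - (n - 1) = 1 by omega, pow_one]

/-- A Sylow 11-subgroup of prime order cannot lie in the centre of its normalizer if a prime `p` divides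
the group order but not the normalizer order and no relevant power of `p` is `1` modulo 11. -/
theorem normalizer_not_le_centralizer (P : Sylow 11 G) (hP : Nat.card (P : Subgroup G) = 11)
    {p : ℕ} (hp : p.Prime) (hp11 : p ≠ 11) (hpG : p ∣ Nat.card G)
    (hpN : ¬ p ∣ Nat.card (normalizer ((P : Subgroup G) : Set G)))
    (M : ℕ) (hGM : Nat.card G ∣ M) (hM : ∀ e, 0 < e → p ^ e ∣ M → p ^ e % 11 ≠ 1) :
    ¬ normalizer ((P : Subgroup G) : Set G) ≤ centralizer ((P : Subgroup G) : Set G) := by
  intro hle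
  haveI : Fact (Nat.Prime 11) := ⟨by norm_num⟩
  set K := (MonoidHom.transferSylow P hle).ker with hK
  have hcompl : IsComplement' K (P : Subgroup G) := MonoidHom.ker_transferSylow_isComplement' P hle
  have hcard : Nat.card K * 11 = Nat.card G := by rw [← hP]; exact hcompl.card_mul
  obtain ⟨x, hx⟩ := exists_prime_orderOf_dvd_card' (G := (P : Subgroup G)) 11 (by rw [hP])
  have hpK : p ∣ Nat.card K := by
    rcases (Nat.Prime.dvd_mul hp).1 (hcard ▸ hpG) with h | h
    · exact h
    · exact absurd ((Nat.prime_dvd_prime_iff_eq hp (by norm_num)).1 h) hp11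
  obtain ⟨y, -, hy, hxy⟩ := exists_commute_of_coprime K (x := (x : G)) (by norm_num) hp
    (by rw [Subgroup.orderOf_coe, hx]) (MonoidHom.not_dvd_card_ker_transferSylow P hle) hpK M
    ((Dvd.intro _ hcard).trans hGM) hM
  have hyN : y ∈ normalizer ((P : Subgroup G) : Set G) := by
    refine centralizer_le_normalizer _ (mem_centralizer_iff.2 fun u hu => ?_)
    have hz : (⟨u, hu⟩ : (P : Subgroup G)) ∈ zpowers x := by
      have htop : zpowers x = ⊤ := (card_eq_iff_eq_top _).1 (by rw [Nat.card_zpowers, hx, hP])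
      rw [htop]; trivial
    obtain ⟨k, hk⟩ := hz
    have : u = (x : G) ^ k := by rw [← Subgroup.coe_zpow]; exact (congrArg Subtype.val hk).symm
    rw [this]
    exact (hxy.zpow_left k).eq
  apply hpN
  rw [← hy, ← Subgroup.orderOf_mk (ha := hyN)]
  exact orderOf_dvd_natCard _

theorem relIndex_centralizer_dvd (H : Subgroup G) :
    (centralizer (H : Set G)).relIndex (normalizer (H : Set G)) ∣ Nat.card (MulAut H) := by
  rw [relIndex, ← normalizerMonoidHom_ker, index_ker]
  exact card_subgroup_dvd_card _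

theorem index_centralizer_dvd (H : Subgroup G) [H.Normal] :
    (centralizer (H : Set G)).index ∣ Nat.card (MulAut H) := by
  have h := relIndex_centralizer_dvd H
  rwa [normalizer_eq_top_iff.2 inferInstance, relIndex_top_right] at h

theorem card_mulAut_prime {H : Subgroup G} {p : ℕ} [Fact p.Prime] (h : Nat.card H = p) :
    Nat.card (MulAut H) = p - 1 := by
  haveI : IsCyclic H := isCyclic_of_prime_card h
  rw [IsCyclic.card_mulAut, h, Nat.totient_prime Fact.out]

theorem card_mulAut_dvd_factorial (H : Subgroup G) :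
    Nat.card (MulAut H) ∣ (Nat.card H - 1).factorial := by
  classical
  haveI := Fintype.ofFinite H
  let f : MulAut H →* Equiv.Perm {n : H // n ≠ 1} :=
    { toFun := fun e => e.toEquiv.subtypeEquiv fun n => by simp
      map_one' := Equiv.ext fun n => Subtype.ext rfl
      map_mul' := fun a b => Equiv.ext fun n => Subtype.ext rfl }
  have hf : Function.Injective f := fun a b h => MulEquiv.ext fun n => by
    by_cases hn : n = 1
    · simp [hn]
    · exact congrArg Subtype.val (Equiv.congr_fun h ⟨n, hn⟩)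
  have := Subgroup.card_dvd_of_injective f hf
  rwa [Nat.card_perm, Nat.card_eq_fintype_card (α := {n : H // n ≠ 1}), Fintype.card_subtype_compl,
    Fintype.card_subtype_eq, ← Nat.card_eq_fintype_card] at this

end CfsgLib.KnownSimple.Order7920
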